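import Groth.Agent.Lib.GaDualQ13.Ring
import Groth.Agent.Lib.RedPts.Ga
import Groth.Prelude.Def_CGrpSh2

/-!
# Characters of the additive group over a `ℚ`-scheme
-/

set_option autoImplicit false
set_option backward.isDefEq.respectTransparency false

universe u

open CategoryTheory CategoryTheory.Limits Opposite AlgebraicGeometry MonObj

noncomputable section

namespace GrothLib.GaDualQ13

local notation "fppf" => Scheme.fppfPrecoverage

/-- All positive integers are invertible on the scheme. -/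
class IsRatScheme (X : Scheme.{u}) : Prop where
  isUnit : ∀ n : ℕ, 0 < n → IsUnit ((n : Γ(X, ⊤)))

variable {X : Scheme.{u}}

instance ratAlgebra [IsRatScheme X] (U : Over X) : Algebra ℚ Γ(U.left, ⊤) :=
  (ratHom fun n hn => by simpa using (IsRatScheme.isUnit (X := X) n hn).map U.hom.appTop.hom).toAlgebra

variable (X) in
abbrev GaSh : BigSite.Ab fppf X := CGrpSh2.Ga fppf X

variable (X) in
abbrev GmSh : BigSite.Ab fppf X := CGrpSh2.Gm fppf X

/-- Characters of `𝔾_a` over an object. -/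
abbrev CharOn (T : Over X) : Type (u + 1) := (GaSh X).over T ⟶ (GmSh X).over T

/-- A function as a section of `𝔾_a`. -/
def gaSec {U : Over X} (t : Γ(U.left, ⊤)) : (GaSh X).obj.obj (op U) :=
  ULift.up.{u + 1} (Additive.ofMul (RedPts.gaPt t))

/-- The function of a section of `𝔾_a`. -/
def gaVal {U : Over X} (x : (GaSh X).obj.obj (op U)) : Γ(U.left, ⊤) :=
  Red.gaFn (show ULift.{u + 1} (Additive (U ⟶ Red.Ga X)) from x).down.toMul

/-- A unit as a section of `𝔾_m`. -/
def gmSec {U : Over X} (v : (Γ(U.left, ⊤))ˣ) : (GmSh X).obj.obj (op U) :=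
  ULift.up.{u + 1} (Additive.ofMul (GmPts.ptOfUnit v))

/-- The function of a section of `𝔾_m`. -/
def gmVal {U : Over X} (x : (GmSh X).obj.obj (op U)) : Γ(U.left, ⊤) :=
  Red.gmFn (show ULift.{u + 1} (Additive (U ⟶ Red.Gm X)) from x).down.toMul

theorem gaVal_gaSec {U : Over X} (t : Γ(U.left, ⊤)) : gaVal (gaSec t) = t := RedPts.gaFn_gaPt t

theorem gaSec_gaVal {U : Over X} (x : (GaSh X).obj.obj (op U)) : gaSec (gaVal x) = x :=
  ULift.ext _ _ (congrArg Additive.ofMul (RedPts.gaFn_injective (RedPts.gaFn_gaPt _)))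

theorem gaSec_add {U : Over X} (a b : Γ(U.left, ⊤)) : gaSec (a + b) = gaSec a + gaSec b :=
  ULift.ext _ _ (congrArg Additive.ofMul (RedPts.gaPt_add a b))

theorem gaVal_add {U : Over X} (x y : (GaSh X).obj.obj (op U)) : gaVal (x + y) = gaVal x + gaVal y :=
  RedPts.gaFn_mul _ _

theorem gmVal_gmSec {U : Over X} (v : (Γ(U.left, ⊤))ˣ) : gmVal (gmSec v) = v := GmPts.gmFn_ptOfUnit v

theorem gmVal_injective {U : Over X} {x y : (GmSh X).obj.obj (op U)} (h : gmVal x = gmVal y) : x = y :=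
  ULift.ext _ _ (congrArg Additive.ofMul (GmPts.gmFn_injective h))

theorem gmVal_add {U : Over X} (x y : (GmSh X).obj.obj (op U)) : gmVal (x + y) = gmVal x * gmVal y :=
  GmPts.gmFn_mul _ _

theorem gmVal_zero {U : Over X} : gmVal (0 : (GmSh X).obj.obj (op U)) = 1 := GmPts.gmFn_one

theorem isUnit_gmVal {U : Over X} (x : (GmSh X).obj.obj (op U)) : IsUnit (gmVal x) := GmPts.isUnit_gmFn _

theorem map_gaSec {U V : Over X} (h : V ⟶ U) (t : Γ(U.left, ⊤)) :
    (GaSh X).obj.map h.op (gaSec t) = gaSec (h.left.appTop t) :=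
  ULift.ext _ _ (congrArg Additive.ofMul (RedPts.gaFn_injective
    ((RedPts.gaFn_comp h _).trans
      ((congrArg h.left.appTop (RedPts.gaFn_gaPt t)).trans (RedPts.gaFn_gaPt _).symm))))

theorem gmVal_map {U V : Over X} (h : V ⟶ U) (x : (GmSh X).obj.obj (op U)) :
    gmVal ((GmSh X).obj.map h.op x) = h.left.appTop (gmVal x) := GmPts.gmFn_comp h _

theorem gaVal_map {U V : Over X} (h : V ⟶ U) (x : (GaSh X).obj.obj (op U)) :
    gaVal ((GaSh X).obj.map h.op x) = h.left.appTop (gaVal x) := RedPts.gaFn_comp h _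

/-- The value of a character. -/
def val {T : Over X} (χ : CharOn T) {U : Over X} (g : U ⟶ T) (t : Γ(U.left, ⊤)) : Γ(U.left, ⊤) :=
  gmVal (U := U) (χ.hom.app (op (Over.mk g)) (gaSec t))

theorem val_comp {T : Over X} (χ : CharOn T) {U V : Over X} (g : U ⟶ T) (h : V ⟶ U) (t : Γ(U.left, ⊤)) :
    val χ (h ≫ g) (h.left.appTop t) = h.left.appTop (val χ g t) := by
  have hn := ConcreteCategory.congr_hom (χ.hom.naturality (Over.homMk h rfl : Over.mk (h ≫ g) ⟶ Over.mk g).op) (gaSec t)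
  unfold val
  rw [← gmVal_map h, ← map_gaSec h]
  exact congrArg (gmVal (U := V)) hn

theorem val_add {T : Over X} (χ : CharOn T) {U : Over X} (g : U ⟶ T) (t t' : Γ(U.left, ⊤)) :
    val χ g (t + t') = val χ g t * val χ g t' := by
  unfold val
  rw [gaSec_add]
  exact (congrArg (gmVal (U := U)) (map_add (χ.hom.app (op (Over.mk g))).hom _ _)).trans (gmVal_add _ _)

theorem char_ext {T : Over X} {χ ψ : CharOn T}
    (h : ∀ (U : Over X) (g : U ⟶ T) t, val χ g t = val ψ g t) : χ = ψ :=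
  Sheaf.hom_ext (NatTrans.ext (funext fun W => AddCommGrpCat.ext fun x => by
    obtain ⟨W⟩ := W
    have := h W.left W.hom (gaVal (U := W.left) x)
    unfold val at this
    rw [gaSec_gaVal] at this
    exact gmVal_injective (U := W.left) this))

theorem val_zero {T : Over X} {U : Over X} (g : U ⟶ T) (t : Γ(U.left, ⊤)) :
    val (0 : CharOn T) g t = 1 := gmVal_zero

theorem val_add_char {T : Over X} (χ ψ : CharOn T) {U : Over X} (g : U ⟶ T) (t : Γ(U.left, ⊤)) :
    val (χ + ψ) g t = val χ g t * val ψ g t := gmVal_add _ _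

/-- Restriction of a character. -/
abbrev res {T T' : Over X} (h : T' ⟶ T) (χ : CharOn T) : CharOn T' :=
  ((QuotSh.J fppf X).overMapPullback AddCommGrpCat.{u + 1} h).map χ

theorem val_res {T T' : Over X} (h : T' ⟶ T) (χ : CharOn T) {U : Over X} (g : U ⟶ T') (t : Γ(U.left, ⊤)) :
    val (res h χ) g t = val χ (g ≫ h) t := rfl

variable [IsRatScheme X]

theorem map_exp {U V : Over X} (f : Γ(U.left, ⊤) →+* Γ(V.left, ⊤)) {a : Γ(U.left, ⊤)} (ha : IsNilpotent a) :
    f (IsNilpotent.exp a) = IsNilpotent.exp (f a) := IsNilpotent.map_exp ha f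

theorem isNilpotent_appTop_mul {U T : Over X} (g : U ⟶ T) {a : Γ(T.left, ⊤)} (ha : IsNilpotent a)
    (t : Γ(U.left, ⊤)) : IsNilpotent (g.left.appTop a * t) :=
  Commute.isNilpotent_mul_right (Commute.all _ _) (ha.map g.left.appTop.hom)

/-- The value of `exp(a·)` on one object. -/
def expApp {T U : Over X} (a : Γ(T.left, ⊤)) (ha : IsNilpotent a) (g : U ⟶ T)
    (x : (GaSh X).obj.obj (op U)) : (GmSh X).obj.obj (op U) :=
  gmSec (IsNilpotent.isUnit_exp (isNilpotent_appTop_mul g ha (gaVal x))).unit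

theorem gmVal_expApp {T U : Over X} (a : Γ(T.left, ⊤)) (ha : IsNilpotent a) (g : U ⟶ T)
    (x : (GaSh X).obj.obj (op U)) :
    gmVal (expApp a ha g x) = IsNilpotent.exp (g.left.appTop a * gaVal x) :=
  (gmVal_gmSec _).trans (IsUnit.unit_spec _)

/-- The value of `exp(a·)` as a homomorphism. -/
def expHom {T U : Over X} (a : Γ(T.left, ⊤)) (ha : IsNilpotent a) (g : U ⟶ T) :
    (GaSh X).obj.obj (op U) ⟶ (GmSh X).obj.obj (op U) :=
  ConcreteCategory.ofHom (C := AddCommGrpCat.{u + 1}) (X := (GaSh X).obj.obj (op U)) (Y := (GmSh X).obj.obj (op U))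
    (AddMonoidHom.mk' (expApp a ha g) fun x y => gmVal_injective (by
    rw [gmVal_add, gmVal_expApp, gmVal_expApp, gmVal_expApp, gaVal_add, mul_add]
    exact IsNilpotent.exp_add_of_commute (Commute.all _ _) (isNilpotent_appTop_mul g ha _)
      (isNilpotent_appTop_mul g ha _)))

theorem expHom_naturality {T U V : Over X} (a : Γ(T.left, ⊤)) (ha : IsNilpotent a) (g : U ⟶ T)
    (g' : V ⟶ T) (h : V ⟶ U) (e : h ≫ g = g') :
    (GaSh X).obj.map h.op ≫ expHom a ha g' = expHom a ha g ≫ (GmSh X).obj.map h.op := by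
  refine AddCommGrpCat.ext fun x => gmVal_injective ?_
  show gmVal (expApp a ha g' ((GaSh X).obj.map h.op x)) = gmVal ((GmSh X).obj.map h.op (expApp a ha g x))
  rw [gmVal_expApp, gmVal_map, gmVal_expApp, gaVal_map, ← e]
  refine Eq.trans ?_ (map_exp h.left.appTop.hom (isNilpotent_appTop_mul g ha _)).symm
  rw [map_mul, Over.comp_left, Scheme.Hom.comp_appTop]
  rfl

/-- The character `t ↦ exp(at)`. -/
def mkChar {T : Over X} (a : Γ(T.left, ⊤)) (ha : IsNilpotent a) : CharOn T :=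
  ⟨{ app := fun W => expHom a ha W.unop.hom
     naturality := fun W W' f =>
       expHom_naturality a ha W.unop.hom W'.unop.hom f.unop.left (Over.w f.unop) }⟩

theorem val_mkChar {T : Over X} (a : Γ(T.left, ⊤)) (ha : IsNilpotent a) {U : Over X} (g : U ⟶ T)
    (t : Γ(U.left, ⊤)) : val (mkChar a ha) g t = IsNilpotent.exp (g.left.appTop a * t) := by
  refine (gmVal_expApp a ha _ _).trans ?_
  exact congrArg (fun s => IsNilpotent.exp (g.left.appTop a * s)) (gaVal_gaSec t)

theorem res_mkChar {T T' : Over X} (h : T' ⟶ T) (a : Γ(T.left, ⊤)) (ha : IsNilpotent a) :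
    res h (mkChar a ha) = mkChar (h.left.appTop a) (ha.map h.left.appTop.hom) := by
  refine char_ext fun U g t => ?_
  rw [val_res, val_mkChar, val_mkChar, Over.comp_left, Scheme.Hom.comp_appTop]
  rfl

theorem mkChar_zero {T : Over X} : mkChar (0 : Γ(T.left, ⊤)) IsNilpotent.zero = 0 := by
  refine char_ext fun U g t => ?_
  rw [val_mkChar, val_zero, map_zero, zero_mul, IsNilpotent.exp_zero]

theorem mkChar_add {T : Over X} (a b : Γ(T.left, ⊤)) (ha : IsNilpotent a) (hb : IsNilpotent b) :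
    mkChar (a + b) ((Commute.all a b).isNilpotent_add ha hb) = mkChar a ha + mkChar b hb := by
  refine char_ext fun U g t => ?_
  rw [val_add_char, val_mkChar, val_mkChar, val_mkChar, map_add, add_mul]
  exact IsNilpotent.exp_add_of_commute (Commute.all _ _) (isNilpotent_appTop_mul _ ha _)
    (isNilpotent_appTop_mul _ hb _)

theorem mkChar_congr {T : Over X} {a b : Γ(T.left, ⊤)} (e : a = b) (ha : IsNilpotent a) :
    mkChar a ha = mkChar b (e ▸ ha) := by subst e; rfl

/-! ### Affine objects -/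

section Ext

variable (U : Over X) [IsAffine U.left] {B : Type u} [CommRing B] (φ : Γ(U.left, ⊤) →+* B)

/-- The object `Spec B` over an affine object. -/
def extOb : Over X := Over.mk (Spec.map (CommRingCat.ofHom φ) ≫ U.left.isoSpec.inv ≫ U.hom)

/-- Its projection. -/
def extHom : extOb U φ ⟶ U := Over.homMk (Spec.map (CommRingCat.ofHom φ) ≫ U.left.isoSpec.inv) (Category.assoc _ _ _)

/-- Its functions. -/
def toExt : B →+* Γ((extOb U φ).left, ⊤) := (Scheme.ΓSpecIso (CommRingCat.of B)).inv.hom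

omit [IsRatScheme X] in
theorem toExt_bijective : Function.Bijective (toExt U φ) :=
  ConcreteCategory.bijective_of_isIso (Scheme.ΓSpecIso (CommRingCat.of B)).inv

omit [IsRatScheme X] in
theorem appTop_extHom (z : Γ(U.left, ⊤)) : (extHom U φ).left.appTop z = toExt U φ (φ z) := by
  have h1 : U.left.isoSpec.inv.appTop = (Scheme.ΓSpecIso Γ(U.left, ⊤)).inv := by
    have h := congrArg Scheme.Hom.appTop U.left.isoSpec.inv_hom_id
    rw [Scheme.Hom.comp_appTop, show U.left.isoSpec.hom.appTop = (Scheme.ΓSpecIso Γ(U.left, ⊤)).hom from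
      U.left.toSpecΓ_appTop] at h
    rw [← Iso.inv_hom_id_assoc (Scheme.ΓSpecIso Γ(U.left, ⊤)) U.left.isoSpec.inv.appTop, h]
    simp
  have h2 := ConcreteCategory.congr_hom (Scheme.ΓSpecIso_inv_naturality (CommRingCat.ofHom φ)) z
  show (Spec.map (CommRingCat.ofHom φ) ≫ U.left.isoSpec.inv).appTop z = _
  rw [Scheme.Hom.comp_appTop, h1]
  exact h2.symm

omit [IsRatScheme X] in
theorem exists_lift {V : Over X} (g : V ⟶ U) (ψ : B →+* Γ(V.left, ⊤)) (h : ψ.comp φ = g.left.appTop.hom) :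
    ∃ m : V ⟶ extOb U φ, m ≫ extHom U φ = g ∧ ∀ b, m.left.appTop (toExt U φ b) = ψ b := by
  have w : (V.left.toSpecΓ ≫ Spec.map (CommRingCat.ofHom ψ)) ≫
      (Spec.map (CommRingCat.ofHom φ) ≫ U.left.isoSpec.inv) = g.left := by
    rw [Category.assoc, ← Spec.map_comp_assoc, ← CommRingCat.ofHom_comp, h, CommRingCat.ofHom_hom,
      ← Category.assoc, ← Scheme.toSpecΓ_naturality, Category.assoc]
    exact (congrArg (g.left ≫ ·) U.left.isoSpec.hom_inv_id).trans (Category.comp_id _)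
  refine ⟨Over.homMk (V.left.toSpecΓ ≫ Spec.map (CommRingCat.ofHom ψ)) ?_, Over.OverMorphism.ext w, fun b => ?_⟩
  · show (V.left.toSpecΓ ≫ Spec.map (CommRingCat.ofHom ψ)) ≫ (Spec.map (CommRingCat.ofHom φ) ≫
      U.left.isoSpec.inv ≫ U.hom) = V.hom
    rw [← Category.assoc (Spec.map (CommRingCat.ofHom φ)), ← Category.assoc, w, Over.w]
  · show (V.left.toSpecΓ ≫ Spec.map (CommRingCat.ofHom ψ)).appTop ((Scheme.ΓSpecIso (CommRingCat.of B)).inv b) = _
    rw [Scheme.Hom.comp_appTop, Scheme.toSpecΓ_appTop, CommRingCat.comp_apply]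
    refine Eq.trans (congrArg (Scheme.ΓSpecIso Γ(V.left, ⊤)).hom
      (ConcreteCategory.congr_hom (Scheme.ΓSpecIso_inv_naturality (CommRingCat.ofHom ψ)) b).symm) ?_
    exact ConcreteCategory.congr_hom (Scheme.ΓSpecIso Γ(V.left, ⊤)).inv_hom_id (ψ b)

end Ext

/-- Characters over an affine object are exponentials. -/
theorem exists_eq_mkChar {U : Over X} [IsAffine U.left] (χ : CharOn U) :
    ∃ (a : Γ(U.left, ⊤)) (ha : IsNilpotent a), χ = mkChar a ha := by
  let φ := (Polynomial.C : Γ(U.left, ⊤) →+* Polynomial Γ(U.left, ⊤))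
  obtain ⟨f, hf⟩ := (toExt_bijective U φ).2 (val χ (extHom U φ) (toExt U φ Polynomial.X))
  have key : ∀ (V : Over X) (g : V ⟶ U) (t : Γ(V.left, ⊤)), val χ g t = f.eval₂ g.left.appTop.hom t := by
    intro V g t
    obtain ⟨m, hm, hm'⟩ := exists_lift U φ g (Polynomial.eval₂RingHom g.left.appTop.hom t)
      (RingHom.ext fun z => Polynomial.eval₂_C _ _)
    have := val_comp χ (extHom U φ) m (toExt U φ Polynomial.X)
    rw [hm, ← hf, hm', hm'] at this
    simpa using this
  have hu : IsUnit f := by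
    have h1 : IsUnit (toExt U φ f) := hf ▸ isUnit_gmVal _
    exact (MulEquiv.isUnit_map (RingEquiv.ofBijective (toExt U φ) (toExt_bijective U φ))).1 h1
  let φ2 := (MvPolynomial.C : Γ(U.left, ⊤) →+* MvPolynomial (Fin 2) Γ(U.left, ⊤))
  have hc : (extHom U φ2).left.appTop.hom = (toExt U φ2).comp φ2 := RingHom.ext (appTop_extHom U φ2)
  have hev : ∀ z : MvPolynomial (Fin 2) Γ(U.left, ⊤),
      val χ (extHom U φ2) (toExt U φ2 z) = toExt U φ2 (Polynomial.aeval z f) := fun z => by
    rw [key, hc, Polynomial.aeval_def, Polynomial.hom_eval₂]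
    rfl
  have hchar : Polynomial.aeval (MvPolynomial.X 0 + MvPolynomial.X 1 : MvPolynomial (Fin 2) Γ(U.left, ⊤)) f =
      Polynomial.aeval (MvPolynomial.X 0 : MvPolynomial (Fin 2) Γ(U.left, ⊤)) f *
        Polynomial.aeval (MvPolynomial.X 1 : MvPolynomial (Fin 2) Γ(U.left, ⊤)) f := by
    apply (toExt_bijective U φ2).1
    rw [map_mul, ← hev, ← hev, ← hev, map_add, val_add]
  obtain ⟨a, ha, h⟩ := exists_exp_of_char f hu hchar
  exact ⟨a, ha, char_ext fun V g t => by rw [key, val_mkChar a ha, h]⟩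

omit [IsRatScheme X] in
/-- Global functions may be compared locally. -/
theorem eq_of_cover {U : Over X} (𝒰 : U.left.OpenCover) (z z' : Γ(U.left, ⊤))
    (h : ∀ i, (𝒰.f i).appTop z = (𝒰.f i).appTop z') : z = z' := by
  rw [← gaVal_gaSec (U := U) z, ← gaVal_gaSec (U := U) z']
  suffices e : (RedPts.gaPt z : U ⟶ Red.Ga X) = RedPts.gaPt z' by
    exact congrArg Red.gaFn e
  refine Over.OverMorphism.ext (Scheme.Cover.hom_ext 𝒰 _ _ fun i => ?_)
  let V : Over X := Over.mk (𝒰.f i ≫ U.hom)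
  let k : V ⟶ U := Over.homMk (𝒰.f i) rfl
  have : k ≫ RedPts.gaPt z = k ≫ RedPts.gaPt z' := RedPts.gaFn_injective (by
    rw [RedPts.gaFn_comp, RedPts.gaFn_comp, RedPts.gaFn_gaPt, RedPts.gaFn_gaPt]
    exact h i)
  exact congrArg CommaMorphism.left this

end GrothLib.GaDualQ13
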