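import Groth.Agent.Lib.GaDualQ13.Char

/-!
# Double duality for the additive group over a `ℚ`-scheme
-/

set_option autoImplicit false
set_option backward.isDefEq.respectTransparency false

universe u

open CategoryTheory CategoryTheory.Limits Opposite AlgebraicGeometry MonObj

noncomputable section

namespace GrothLib.GaDualQ13

local notation "fppf" => Scheme.fppfPrecoverage

variable {X : Scheme.{u}}

variable (X) in
abbrev DualGa : BigSite.Ab fppf X := CGrpSh2.dualSh fppf (GaSh X)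

/-- Characters of the dual. -/
abbrev BiOn (T : Over X) : Type (u + 1) := (DualGa X).over T ⟶ (GmSh X).over T

/-- The value of a character of the dual. -/
def val2 {T : Over X} (Φ : BiOn T) {U : Over X} (g : U ⟶ T) (χ : CharOn U) : Γ(U.left, ⊤) :=
  gmVal (U := U) (Φ.hom.app (op (Over.mk g)) χ)

theorem val2_comp {T : Over X} (Φ : BiOn T) {U V : Over X} (g : U ⟶ T) (h : V ⟶ U) (χ : CharOn U) :
    val2 Φ (h ≫ g) (res h χ) = h.left.appTop (val2 Φ g χ) := by
  have hn := ConcreteCategory.congr_hom (Φ.hom.naturality (Over.homMk h rfl : Over.mk (h ≫ g) ⟶ Over.mk g).op) χ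
  unfold val2
  rw [← gmVal_map h]
  exact congrArg (gmVal (U := V)) hn

theorem val2_add {T : Over X} (Φ : BiOn T) {U : Over X} (g : U ⟶ T) (χ χ' : CharOn U) :
    val2 Φ g (χ + χ') = val2 Φ g χ * val2 Φ g χ' :=
  (congrArg (gmVal (U := U)) (map_add (Φ.hom.app (op (Over.mk g))).hom χ χ')).trans (gmVal_add _ _)

theorem val2_zero {T : Over X} (Φ : BiOn T) {U : Over X} (g : U ⟶ T) :
    val2 Φ g (0 : CharOn U) = 1 :=
  (congrArg (gmVal (U := U)) (map_zero (Φ.hom.app (op (Over.mk g))).hom)).trans gmVal_zero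

theorem bi_ext {T : Over X} {Φ Ψ : BiOn T}
    (h : ∀ (U : Over X) (g : U ⟶ T) χ, val2 Φ g χ = val2 Ψ g χ) : Φ = Ψ :=
  Sheaf.hom_ext (NatTrans.ext (funext fun W => AddCommGrpCat.ext fun x => by
    obtain ⟨W⟩ := W
    exact gmVal_injective (U := W.left) (h W.left W.hom x)))

variable [IsRatScheme X]

theorem val2_congr {T : Over X} (Φ : BiOn T) {U : Over X} {g g' : U ⟶ T} (e : g = g') (χ : CharOn U) :
    val2 Φ g χ = val2 Φ g' χ := by subst e; rfl

/-- `Φ` evaluates exponential characters below `g` through the function `b`. -/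
def HasCoeff {T : Over X} (Φ : BiOn T) {U : Over X} (g : U ⟶ T) (b : Γ(U.left, ⊤)) : Prop :=
  ∀ (V : Over X) (h : V ⟶ U) (a : Γ(V.left, ⊤)) (ha : IsNilpotent a),
    val2 Φ (h ≫ g) (mkChar a ha) = IsNilpotent.exp (h.left.appTop b * a)

theorem HasCoeff.comp {T : Over X} {Φ : BiOn T} {U U' : Over X} {g : U ⟶ T} {b : Γ(U.left, ⊤)}
    (H : HasCoeff Φ g b) (k : U' ⟶ U) : HasCoeff Φ (k ≫ g) (k.left.appTop b) := fun V h a ha => by
  rw [← Category.assoc, H V (h ≫ k) a ha, Over.comp_left, Scheme.Hom.comp_appTop]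
  rfl

theorem appTop_ext_eq {U : Over X} [IsAffine U.left] {B : Type u} [CommRing B] (φ : Γ(U.left, ⊤) →+* B) :
    (extHom U φ).left.appTop.hom = (toExt U φ).comp φ := RingHom.ext (appTop_extHom U φ)

theorem toExt_exp {U : Over X} [IsAffine U.left] {B : Type u} [CommRing B] [Algebra ℚ B] (φ : Γ(U.left, ⊤) →+* B)
    {z : B} (hz : IsNilpotent z) :
    toExt U φ (IsNilpotent.exp z) = IsNilpotent.exp (toExt U φ z) :=
  IsNilpotent.map_exp hz (toExt U φ)

/-- The structure map of the truncated polynomial ring. -/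
def truncC (U : Over X) (M : ℕ) : Γ(U.left, ⊤) →+* Trunc Γ(U.left, ⊤) M := (Ideal.Quotient.mk _).comp Polynomial.C

/-- The variable of the truncated polynomial ring. -/
def truncX (U : Over X) (M : ℕ) : Trunc Γ(U.left, ⊤) M := Ideal.Quotient.mk _ Polynomial.X

theorem truncX_pow (U : Over X) (M : ℕ) : truncX U M ^ M = 0 := trunc_X_pow M

theorem toExt_truncX_pow (U : Over X) [IsAffine U.left] (M : ℕ) :
    toExt U (truncC U M) (truncX U M) ^ M = 0 :=
  (map_pow _ _ _).symm.trans ((congrArg _ (truncX_pow U M)).trans (map_zero _))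

/-- Reading off a coefficient on the dual numbers. -/
theorem coeff_inj {U : Over X} [IsAffine U.left] (b c : Γ(U.left, ⊤))
    (e : ∀ (V : Over X) (h : V ⟶ U) (a : Γ(V.left, ⊤)), IsNilpotent a → a ^ 2 = 0 →
      IsNilpotent.exp (h.left.appTop b * a) = IsNilpotent.exp (h.left.appTop c * a)) : b = c := by
  let x : Trunc Γ(U.left, ⊤) 2 := Ideal.Quotient.mk _ Polynomial.X
  have hx2 : (toExt U (truncC U 2) x) ^ 2 = 0 :=
    (map_pow _ _ _).symm.trans ((congrArg _ (trunc_X_pow 2)).trans (map_zero _))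
  have key : ∀ z : Γ(U.left, ⊤), IsNilpotent.exp ((extHom U (truncC U 2)).left.appTop z * toExt U (truncC U 2) x) =
      toExt U (truncC U 2) (IsNilpotent.exp (truncC U 2 z * x)) := fun z =>
    (congrArg IsNilpotent.exp ((congrArg (· * toExt U (truncC U 2) x) (appTop_extHom U (truncC U 2) z)).trans
      (map_mul (toExt U (truncC U 2)) (truncC U 2 z) x).symm)).trans
      (toExt_exp (truncC U 2) (Commute.isNilpotent_mul_left (Commute.all _ _) ⟨2, trunc_X_pow 2⟩)).symm
  have h2 := (toExt_bijective U (truncC U 2)).1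
    ((key b).symm.trans ((e _ (extHom U (truncC U 2)) _ ⟨2, hx2⟩ hx2).trans (key c)))
  refine exp_inj b c ?_
  rw [map_mul, map_mul]
  exact h2

theorem HasCoeff.unique_affine {T : Over X} {Φ : BiOn T} {U : Over X} [IsAffine U.left] {g : U ⟶ T}
    {b b' : Γ(U.left, ⊤)} (H : HasCoeff Φ g b) (H' : HasCoeff Φ g b') : b = b' := by
  exact coeff_inj b b' fun V h a ha _ => (H V h a ha).symm.trans (H' V h a ha)

theorem HasCoeff.unique {T : Over X} {Φ : BiOn T} {U : Over X} {g : U ⟶ T}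
    {b b' : Γ(U.left, ⊤)} (H : HasCoeff Φ g b) (H' : HasCoeff Φ g b') : b = b' := by
  refine eq_of_cover U.left.affineCover b b' fun i => ?_
  let V : Over X := Over.mk (U.left.affineCover.f i ≫ U.hom)
  haveI : IsAffine V.left := inferInstanceAs (IsAffine (U.left.affineCover.X i))
  exact (H.comp (Over.homMk (U.left.affineCover.f i) rfl : V ⟶ U)).unique_affine (H'.comp _)

/-- The two-variable truncated polynomial ideal. -/
def pairIdeal (U : Over X) (M : ℕ) : Ideal (MvPolynomial (Fin 2) Γ(U.left, ⊤)) :=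
  Ideal.span {(MvPolynomial.X 0 ^ M : MvPolynomial (Fin 2) Γ(U.left, ⊤)), MvPolynomial.X 1 ^ M}

/-- The structure map of the two-variable truncated polynomial ring. -/
def pairC (U : Over X) (M : ℕ) : Γ(U.left, ⊤) →+* MvPolynomial (Fin 2) Γ(U.left, ⊤) ⧸ pairIdeal U M :=
  (Ideal.Quotient.mk _).comp MvPolynomial.C

/-- Functions on the two-variable neighbourhood. -/
def pairFn (U : Over X) [IsAffine U.left] (M : ℕ) :
    MvPolynomial (Fin 2) Γ(U.left, ⊤) →+* Γ((extOb U (pairC U M)).left, ⊤) :=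
  (toExt U (pairC U M)).comp (Ideal.Quotient.mk _)

theorem pairFn_aeval (U : Over X) [IsAffine U.left] (M : ℕ) (z : MvPolynomial (Fin 2) Γ(U.left, ⊤))
    (f : Polynomial Γ(U.left, ⊤)) :
    pairFn U M (Polynomial.aeval z f) = f.eval₂ (extHom U (pairC U M)).left.appTop.hom (pairFn U M z) :=
  (Polynomial.hom_eval₂ f (algebraMap _ _) (pairFn U M) z).trans
    (congrArg (fun r => f.eval₂ r (pairFn U M z)) (appTop_ext_eq (pairC U M)).symm)

theorem pairFn_X_pow (U : Over X) [IsAffine U.left] (M : ℕ) (i : Fin 2) :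
    pairFn U M (MvPolynomial.X i) ^ M = 0 := by
  refine (map_pow (pairFn U M) _ _).symm.trans ?_
  refine (congrArg (toExt U (pairC U M)) (Ideal.Quotient.eq_zero_iff_mem.2
    (Ideal.subset_span ?_))).trans (map_zero _)
  fin_cases i <;> simp

/-- `Φ` is computed by a polynomial on exponential characters of order `N`. -/
theorem exists_eval₂ {T : Over X} (Φ : BiOn T) {U : Over X} [IsAffine U.left] (g : U ⟶ T) (N : ℕ) :
    ∃ f : Polynomial Γ(U.left, ⊤), ∀ (V : Over X) (h : V ⟶ U) (a : Γ(V.left, ⊤)) (ha : IsNilpotent a),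
      a ^ N = 0 → val2 Φ (h ≫ g) (mkChar a ha) = f.eval₂ h.left.appTop.hom a := by
  have hx : IsNilpotent (toExt U (truncC U N) (truncX U N)) := ⟨N, toExt_truncX_pow U N⟩
  obtain ⟨r, hr⟩ := (toExt_bijective U (truncC U N)).2 (val2 Φ (extHom U (truncC U N) ≫ g) (mkChar _ hx))
  obtain ⟨f, rfl⟩ := Ideal.Quotient.mk_surjective r
  refine ⟨f, fun V h a ha hN => ?_⟩
  obtain ⟨ψ, hψ⟩ := exists_trunc_lift h.left.appTop.hom N a hN
  obtain ⟨m, hm, hm'⟩ := exists_lift U (truncC U N) h ψ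
    (RingHom.ext fun z => (hψ _).trans (Polynomial.eval₂_C _ _))
  have e1 : mkChar a ha = res m (mkChar _ hx) :=
    (mkChar_congr ((hm' _).trans ((hψ _).trans (Polynomial.eval₂_X _ _))).symm ha).trans (res_mkChar m _ hx).symm
  have e2 : (m ≫ extHom U (truncC U N) ≫ g) = h ≫ g := (Category.assoc _ _ _).symm.trans (congrArg (· ≫ g) hm)
  exact (congrArg (val2 Φ (h ≫ g)) e1).trans ((val2_congr Φ e2.symm _).trans
    ((val2_comp Φ (extHom U (truncC U N) ≫ g) m _).trans
      ((congrArg m.left.appTop hr.symm).trans ((hm' _).trans (hψ f)))))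

theorem exists_poly {T : Over X} (Φ : BiOn T) {U : Over X} [IsAffine U.left] (g : U ⟶ T) (M : ℕ) (hM : 2 ≤ M) :
    ∃ c : Γ(U.left, ⊤), ∀ (V : Over X) (h : V ⟶ U) (a : Γ(V.left, ⊤)) (ha : IsNilpotent a),
      a ^ M = 0 → val2 Φ (h ≫ g) (mkChar a ha) = IsNilpotent.exp (h.left.appTop c * a) := by
  obtain ⟨f, key⟩ := exists_eval₂ Φ g (M + M)
  have h0 : f.coeff 0 = 1 := by
    have e := key U (𝟙 U) 0 IsNilpotent.zero (zero_pow (by omega))
    rw [mkChar_zero, val2_zero, Polynomial.eval₂_at_zero] at e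
    exact (e.trans (ConcreteCategory.congr_hom (Scheme.Hom.id_appTop (X := U.left)) _)).symm
  have hp : ∀ i : Fin 2, pairFn U M (MvPolynomial.X i) ^ (M + M) = 0 := fun i =>
    pow_eq_zero_of_le (by omega) (pairFn_X_pow U M i)
  have hsum : (pairFn U M (MvPolynomial.X 0) + pairFn U M (MvPolynomial.X 1)) ^ (M + M) = 0 :=
    Commute.add_pow_eq_zero_of_add_le_succ_of_pow_eq_zero (Commute.all _ _) (pairFn_X_pow U M 0)
      (pairFn_X_pow U M 1) (by omega)
  have hev : ∀ (w : Γ((extOb U (pairC U M)).left, ⊤)) (hw : IsNilpotent w), w ^ (M + M) = 0 →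
      val2 Φ (extHom U (pairC U M) ≫ g) (mkChar w hw) = f.eval₂ (extHom U (pairC U M)).left.appTop.hom w :=
    fun w hw hw2 => key _ _ w hw hw2
  have hmul : pairFn U M (Polynomial.aeval (MvPolynomial.X 0 + MvPolynomial.X 1) f) =
      pairFn U M (Polynomial.aeval (MvPolynomial.X 0) f * Polynomial.aeval (MvPolynomial.X 1) f) :=
    calc _ = f.eval₂ (extHom U (pairC U M)).left.appTop.hom
          (pairFn U M (MvPolynomial.X 0) + pairFn U M (MvPolynomial.X 1)) :=
        (pairFn_aeval U M _ f).trans (congrArg (fun w => f.eval₂ _ w) (map_add _ _ _))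
      _ = val2 Φ (extHom U (pairC U M) ≫ g) (mkChar _ ⟨_, hsum⟩) := (hev _ _ hsum).symm
      _ = val2 Φ (extHom U (pairC U M) ≫ g) (mkChar _ ⟨_, hp 0⟩) *
          val2 Φ (extHom U (pairC U M) ≫ g) (mkChar _ ⟨_, hp 1⟩) :=
        (congrArg (val2 Φ _) (mkChar_add _ _ ⟨_, hp 0⟩ ⟨_, hp 1⟩)).trans (val2_add Φ _ _ _)
      _ = pairFn U M (Polynomial.aeval (MvPolynomial.X 0) f) * pairFn U M (Polynomial.aeval (MvPolynomial.X 1) f) :=
        congrArg₂ (· * ·) ((hev _ _ (hp 0)).trans (pairFn_aeval U M _ f).symm)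
          ((hev _ _ (hp 1)).trans (pairFn_aeval U M _ f).symm)
      _ = _ := (map_mul _ _ _).symm
  have hseq := GrothLib.GaDual.charSeq_of_mod f ((toExt_bijective U (pairC U M)).1 hmul)
  have hcoeff := coeff_of_charSeq hM f (h0 ▸ isUnit_one) hseq
  refine ⟨f.coeff 1, fun V h a ha haM => ?_⟩
  exact (key V h a ha (pow_eq_zero_of_le (by omega) haM)).trans (eval₂_eq_exp _ hM f hcoeff a haM)

theorem exists_hasCoeff_affine {T : Over X} (Φ : BiOn T) {U : Over X} [IsAffine U.left] (g : U ⟶ T) :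
    ∃ b, HasCoeff Φ g b := by
  obtain ⟨b, hb⟩ := exists_poly Φ g 2 le_rfl
  refine ⟨b, fun V h a ha => ?_⟩
  obtain ⟨N, hN⟩ := ha
  obtain ⟨c, hc⟩ := exists_poly Φ g (N + 2) (by omega)
  suffices hbc : b = c by
    rw [hc V h a ⟨N, hN⟩ (pow_eq_zero_of_le (by omega) hN), hbc]
  exact coeff_inj b c fun V h a ha ha2 =>
    (hb V h a ha ha2).symm.trans (hc V h a ha (pow_eq_zero_of_le (by omega) ha2))

theorem exists_hasCoeff {T : Over X} (Φ : BiOn T) : ∃ b, HasCoeff Φ (𝟙 T) b := by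
  let 𝒰 := T.left.affineCover
  let V : 𝒰.I₀ → Over X := fun i => Over.mk (𝒰.f i ≫ T.hom)
  haveI : ∀ i, IsAffine (V i).left := fun i => inferInstanceAs (IsAffine (𝒰.X i))
  let k : ∀ i, V i ⟶ T := fun i => Over.homMk (𝒰.f i) rfl
  choose bl hbl using fun i => exists_hasCoeff_affine Φ (k i ≫ 𝟙 T)
  let pts : ∀ i, 𝒰.X i ⟶ (Red.Ga X).left := fun i => (RedPts.gaPt (bl i) : V i ⟶ Red.Ga X).left
  have compat : ∀ i j, pullback.fst (𝒰.f i) (𝒰.f j) ≫ pts i = pullback.snd (𝒰.f i) (𝒰.f j) ≫ pts j := by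
    intro i j
    let W : Over X := Over.mk (pullback.fst (𝒰.f i) (𝒰.f j) ≫ 𝒰.f i ≫ T.hom)
    let p : W ⟶ V i := Over.homMk (pullback.fst (𝒰.f i) (𝒰.f j)) rfl
    let q : W ⟶ V j := Over.homMk (pullback.snd (𝒰.f i) (𝒰.f j)) (pullback.condition_assoc _).symm
    have hpq : p ≫ k i ≫ 𝟙 T = q ≫ k j ≫ 𝟙 T := by
      rw [Category.comp_id, Category.comp_id]
      exact Over.OverMorphism.ext pullback.condition
    have e : p.left.appTop (bl i) = q.left.appTop (bl j) :=
      ((hbl i).comp p).unique (hpq ▸ (hbl j).comp q)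
    have e2 : p ≫ RedPts.gaPt (bl i) = q ≫ RedPts.gaPt (bl j) := RedPts.gaFn_injective (by
      rw [RedPts.gaFn_comp, RedPts.gaFn_comp, RedPts.gaFn_gaPt, RedPts.gaFn_gaPt]
      exact e)
    exact congrArg CommaMorphism.left e2
  let G := Scheme.Cover.glueMorphisms 𝒰 pts compat
  have hG : G ≫ (Red.Ga X).hom = T.hom := Scheme.Cover.hom_ext 𝒰 _ _ fun i => by
    rw [← Category.assoc, Scheme.Cover.ι_glueMorphisms]
    exact Over.w (RedPts.gaPt (bl i) : V i ⟶ Red.Ga X)
  let pt : T ⟶ Red.Ga X := Over.homMk G hG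
  have hk : ∀ i, (k i).left.appTop (Red.gaFn pt) = bl i := fun i => by
    rw [← RedPts.gaFn_comp, show k i ≫ pt = RedPts.gaPt (bl i) from
      Over.OverMorphism.ext (Scheme.Cover.ι_glueMorphisms 𝒰 pts compat i), RedPts.gaFn_gaPt]
  refine ⟨Red.gaFn pt, fun U h a ha => ?_⟩
  let 𝒱 := 𝒰.pullback₁ h.left
  refine eq_of_cover 𝒱 _ _ fun i => ?_
  let W : Over X := Over.mk (pullback.fst h.left (𝒰.f i) ≫ U.hom)
  let p : W ⟶ U := Over.homMk (pullback.fst h.left (𝒰.f i)) rfl
  let q : W ⟶ V i := Over.homMk (pullback.snd h.left (𝒰.f i)) (by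
    show pullback.snd h.left (𝒰.f i) ≫ 𝒰.f i ≫ T.hom = pullback.fst h.left (𝒰.f i) ≫ U.hom
    rw [← pullback.condition_assoc, Over.w h])
  have hqp : q ≫ k i ≫ 𝟙 T = p ≫ h ≫ 𝟙 T := by
    rw [Category.comp_id, Category.comp_id]
    exact Over.OverMorphism.ext pullback.condition.symm
  show p.left.appTop _ = p.left.appTop _
  rw [← val2_comp, res_mkChar, val2_congr Φ hqp.symm, hbl i W q _ _]
  refine Eq.trans ?_ (map_exp p.left.appTop.hom (Commute.isNilpotent_mul_left (Commute.all _ _) ha)).symm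
  rw [map_mul, ← hk i]
  have hsq : ∀ z, q.left.appTop ((k i).left.appTop z) = p.left.appTop (h.left.appTop z) := fun z => by
    have := congrArg (fun m : W ⟶ T => m.left.appTop z) (show q ≫ k i = p ≫ h by simpa using hqp)
    simpa [Over.comp_left, Scheme.Hom.comp_appTop] using this
  rw [hsq]

theorem eq_of_hasCoeff {T : Over X} {Φ Ψ : BiOn T} {b : Γ(T.left, ⊤)} (H : HasCoeff Φ (𝟙 T) b)
    (H' : HasCoeff Ψ (𝟙 T) b) : Φ = Ψ := by
  refine bi_ext fun U g χ => eq_of_cover U.left.affineCover _ _ fun i => ?_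
  let V : Over X := Over.mk (U.left.affineCover.f i ≫ U.hom)
  haveI : IsAffine V.left := inferInstanceAs (IsAffine (U.left.affineCover.X i))
  let k : V ⟶ U := Over.homMk (U.left.affineCover.f i) rfl
  show k.left.appTop _ = k.left.appTop _
  obtain ⟨a, ha, hχ⟩ := exists_eq_mkChar (res k χ)
  rw [← val2_comp, ← val2_comp, hχ, val2_congr Φ (Category.comp_id (k ≫ g)).symm,
    val2_congr Ψ (Category.comp_id (k ≫ g)).symm, H V _ a ha, H' V _ a ha]

theorem hasCoeff_evalSect {T : Over X} (s : (GaSh X).obj.obj (op T)) :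
    HasCoeff (HomSh.evalSect (M := GmSh X) (QuotSh.J fppf X) s : BiOn T) (𝟙 T) (gaVal s) := fun V h a ha => by
  have e1 : val2 (HomSh.evalSect (M := GmSh X) (QuotSh.J fppf X) s : BiOn T) (h ≫ 𝟙 T) (mkChar a ha) =
      val (mkChar a ha) (𝟙 V) ((h ≫ 𝟙 T).left.appTop (gaVal s)) := by
    rw [← gaVal_map]
    unfold val
    rw [gaSec_gaVal]
    rfl
  rw [e1, val_mkChar, Category.comp_id, Over.id_left, Scheme.Hom.id_appTop, mul_comm]
  rfl

theorem bijective_toDoubleDual (T : Over X) :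
    Function.Bijective ((CGrpSh2.toDoubleDual fppf (GaSh X)).hom.app (op T)) := by
  refine ⟨(injective_iff_map_eq_zero _).2 fun s hs => ?_, fun Φ => ?_⟩
  · have H := hasCoeff_evalSect s
    rw [show (HomSh.evalSect (M := GmSh X) (QuotSh.J fppf X) s : BiOn T) = 0 from hs] at H
    have H0 : HasCoeff (0 : BiOn T) (𝟙 T) 0 := fun V h a ha => by
      rw [map_zero, zero_mul, IsNilpotent.exp_zero]
      exact gmVal_zero
    rw [← gaSec_gaVal s, H.unique H0]
    exact ULift.ext _ _ (congrArg Additive.ofMul (RedPts.gaFn_injective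
      ((RedPts.gaFn_gaPt _).trans RedPts.gaFn_one.symm)))
  · obtain ⟨b, hb⟩ := exists_hasCoeff (Φ : BiOn T)
    have H := hasCoeff_evalSect (gaSec b)
    rw [gaVal_gaSec] at H
    exact ⟨gaSec b, eq_of_hasCoeff H hb⟩

theorem isIso_app (T : Over X) : IsIso ((CGrpSh2.toDoubleDual fppf (GaSh X)).hom.app (op T)) :=
  (ConcreteCategory.isIso_iff_bijective _).2 (bijective_toDoubleDual T)

theorem isIso_of_app {C : Type (u+1)} [Category.{u} C] {J : GrothendieckTopology C} {F G : Sheaf J AddCommGrpCat.{u+1}} (α : F ⟶ G)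
    (h : ∀ T : C, IsIso (α.hom.app (op T))) : IsIso α := by
  haveI : ∀ T, IsIso (α.hom.app T) := fun T => h T.unop
  haveI : IsIso α.hom := NatIso.isIso_of_isIso_app _
  exact ⟨⟨inv α.hom⟩, Sheaf.hom_ext (IsIso.hom_inv_id _), Sheaf.hom_ext (IsIso.inv_hom_id _)⟩

theorem isIso_toDoubleDual (X : Scheme.{u}) [IsRatScheme X] :
    IsIso (CGrpSh2.toDoubleDual fppf (GaSh X)) :=
  isIso_of_app (CGrpSh2.toDoubleDual fppf (GaSh X)) isIso_app

end GrothLib.GaDualQ13
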