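import Groth.Agent.Lib.GaDual.Char
import Mathlib.RingTheory.Nilpotent.Exp
import Mathlib.RingTheory.Localization.FractionRing

/-!
# Exponential characters over `ℚ`-algebras
-/

set_option autoImplicit false

universe u

open Polynomial Finset

namespace GrothLib.GaDualQ13

/-- A ring in which all positive integers are invertible is a `ℚ`-algebra. -/
noncomputable def ratHom {A : Type u} [CommRing A] (h : ∀ n : ℕ, 0 < n → IsUnit (n : A)) : ℚ →+* A :=
  IsLocalization.lift (M := nonZeroDivisors ℤ) (S := ℚ) (g := Int.castRingHom A) fun y => by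
    have h0 : (y : ℤ) ≠ 0 := nonZeroDivisors.coe_ne_zero y
    have hu := h (y : ℤ).natAbs (Int.natAbs_pos.2 h0)
    rcases Int.natAbs_eq (y : ℤ) with e | e <;> rw [e]
    · rw [eq_intCast, Int.cast_natCast]; exact hu
    · rw [eq_intCast, Int.cast_neg, Int.cast_natCast]; exact hu.neg

variable {A : Type u} [CommRing A] [Algebra ℚ A]

/-- The coefficients of a character modulo `(X₀ᴹ, X₁ᴹ)` are those of an exponential. -/
theorem coeff_of_charSeq {M : ℕ} (hM : 2 ≤ M) (f : A[X]) (h0 : IsUnit (f.coeff 0))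
    (h : ∀ i j, i < M → j < M → f.coeff i * f.coeff j = ((i + j).choose i : A) * f.coeff (i + j)) :
    ∀ n, n ≤ M → f.coeff n = f.coeff 1 ^ n * algebraMap ℚ A (1 / n.factorial) := by
  intro n
  induction n with
  | zero =>
    intro _
    have e := h 0 0 (by omega) (by omega)
    rw [add_zero, Nat.choose_self, Nat.cast_one, one_mul] at e
    simpa using h0.mul_left_cancel (e.trans (mul_one _).symm)
  | succ n ih =>
    intro hn
    have e := h 1 n (by omega) (by omega)
    rw [add_comm 1 n, Nat.choose_one_right, ih (by omega)] at e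
    rw [show (1 / ((n + 1).factorial : ℚ)) = 1 / n.factorial * (1 / (n + 1 : ℕ)) by
      rw [Nat.factorial_succ]; push_cast; field_simp, map_mul, pow_succ']
    have hu : ((n + 1 : ℕ) : A) * algebraMap ℚ A (1 / (n + 1 : ℕ)) = 1 := by
      rw [← map_natCast (algebraMap ℚ A), ← map_mul,
        mul_one_div_cancel (Nat.cast_ne_zero.2 n.succ_ne_zero), map_one]
    linear_combination -algebraMap ℚ A (1 / (n + 1 : ℕ)) * e - f.coeff (n + 1) * hu

/-- Evaluation of such a polynomial at a nilpotent element is an exponential. -/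
theorem eval₂_eq_exp {B : Type u} [CommRing B] [Algebra ℚ B] (φ : A →+* B) {M : ℕ} (hM : 2 ≤ M) (f : A[X])
    (hf : ∀ n, n ≤ M → f.coeff n = f.coeff 1 ^ n * algebraMap ℚ A (1 / n.factorial))
    (a : B) (ha : a ^ M = 0) : f.eval₂ φ a = IsNilpotent.exp (φ (f.coeff 1) * a) := by
  have hc : (φ (f.coeff 1) * a) ^ M = 0 := by rw [mul_pow, ha, mul_zero]
  rw [IsNilpotent.exp_eq_sum hc, eval₂_eq_sum_range' φ (show f.natDegree < max M (f.natDegree + 1) by omega),
    ← Finset.sum_subset (Finset.range_subset_range.2 (le_max_left M (f.natDegree + 1))) fun n _ hn => by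
      rw [Finset.mem_range, not_lt] at hn
      rw [pow_eq_zero_of_le hn ha, mul_zero]]
  refine Finset.sum_congr rfl fun n hn => ?_
  rw [hf n (Finset.mem_range.1 hn).le, map_mul, map_pow, mul_pow, Algebra.smul_def,
    show φ (algebraMap ℚ A (1 / n.factorial)) = algebraMap ℚ B (1 / n.factorial) from
      RingHom.congr_fun (Subsingleton.elim (φ.comp (algebraMap ℚ A)) (algebraMap ℚ B)) _, one_div]
  ring

/-- A unit polynomial which is a character is `exp(aX)` with `a` nilpotent. -/
theorem exists_exp_of_char (f : A[X]) (hu : IsUnit f)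
    (h : Polynomial.aeval (MvPolynomial.X 0 + MvPolynomial.X 1 : MvPolynomial (Fin 2) A) f =
      Polynomial.aeval (MvPolynomial.X 0 : MvPolynomial (Fin 2) A) f *
        Polynomial.aeval (MvPolynomial.X 1 : MvPolynomial (Fin 2) A) f) :
    ∃ a : A, IsNilpotent a ∧ ∀ (B : Type u) [CommRing B] [Algebra ℚ B] (φ : A →+* B) (t : B),
      f.eval₂ φ t = IsNilpotent.exp (φ a * t) := by
  have hseq := (GrothLib.GaDual.charEq_iff f).1 h
  have h0 : IsUnit (f.coeff 0) := by
    simpa [← Polynomial.constantCoeff_apply] using hu.map (Polynomial.constantCoeff (R := A))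
  have hf : ∀ n, f.coeff n = f.coeff 1 ^ n * algebraMap ℚ A (1 / n.factorial) := fun n =>
    coeff_of_charSeq (M := n + 2) (by omega) f h0 (fun i j _ _ => hseq i j) n (by omega)
  set a := f.coeff 1
  have ha : a ^ (f.natDegree + 1) = 0 := by
    have e := hf (f.natDegree + 1)
    rw [coeff_eq_zero_of_natDegree_lt (Nat.lt_succ_self _)] at e
    have e2 := congrArg (· * ((f.natDegree + 1).factorial : A)) e
    simp only [zero_mul] at e2
    rw [mul_assoc, ← map_natCast (algebraMap ℚ A), ← map_mul,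
      one_div_mul_cancel (Nat.cast_ne_zero.2 (Nat.factorial_ne_zero _)), map_one, mul_one] at e2
    exact e2.symm
  refine ⟨a, ⟨_, ha⟩, fun B _ _ φ t => ?_⟩
  have hc : (φ a * t) ^ (f.natDegree + 1) = 0 := by rw [mul_pow, ← map_pow, ha, map_zero, zero_mul]
  rw [IsNilpotent.exp_eq_sum hc, eval₂_eq_sum_range]
  refine Finset.sum_congr rfl fun n _ => ?_
  rw [hf n, map_mul, map_pow, mul_pow, Algebra.smul_def,
    show φ (algebraMap ℚ A (1 / n.factorial)) = algebraMap ℚ B (1 / n.factorial) from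
      RingHom.congr_fun (Subsingleton.elim (φ.comp (algebraMap ℚ A)) (algebraMap ℚ B)) _, one_div]
  ring

/-- `A[X]/(Xᴹ)`. -/
abbrev Trunc (A : Type u) [CommRing A] (M : ℕ) : Type u := A[X] ⧸ Ideal.span {(X : A[X]) ^ M}

omit [Algebra ℚ A] in
theorem trunc_X_pow (M : ℕ) : (Ideal.Quotient.mk (Ideal.span {(X : A[X]) ^ M}) X) ^ M = 0 := by
  rw [← map_pow, Ideal.Quotient.eq_zero_iff_mem]
  exact Ideal.mem_span_singleton_self _

omit [Algebra ℚ A] in
/-- The ring map out of `A[X]/(Xᴹ)`. -/
theorem exists_trunc_lift {B : Type u} [CommRing B] (φ : A →+* B) (M : ℕ) (a : B) (ha : a ^ M = 0) :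
    ∃ ψ : Trunc A M →+* B, ∀ f : A[X], ψ (Ideal.Quotient.mk _ f) = f.eval₂ φ a :=
  ⟨Ideal.Quotient.lift _ (eval₂RingHom φ a) fun f hf => by
    obtain ⟨g, rfl⟩ := Ideal.mem_span_singleton.1 hf
    simp [eval₂_mul, ha], fun f => rfl⟩

/-- The exponential determines the coefficient. -/
theorem exp_inj (c d : A) [Algebra ℚ (Trunc A 2)]
    (h : IsNilpotent.exp (Ideal.Quotient.mk _ (C c * X) : Trunc A 2) =
      IsNilpotent.exp (Ideal.Quotient.mk _ (C d * X) : Trunc A 2)) : c = d := by
  have h2 : ∀ e : A, (Ideal.Quotient.mk (Ideal.span {(X : A[X]) ^ 2}) (C e * X)) ^ 2 = 0 := fun e => by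
    rw [map_mul, mul_pow, trunc_X_pow, mul_zero]
  rw [IsNilpotent.exp_eq_sum (h2 c), IsNilpotent.exp_eq_sum (h2 d)] at h
  simp only [Finset.sum_range_succ, Finset.sum_range_zero, zero_add, pow_zero, pow_one, Nat.factorial_zero,
    Nat.factorial_one, Nat.cast_one, inv_one, one_smul, add_right_inj] at h
  rw [Ideal.Quotient.eq, Ideal.mem_span_singleton] at h
  obtain ⟨g, hg⟩ := h
  have e := congrArg (fun p : A[X] => p.coeff 1) hg
  simp only [coeff_sub, coeff_C_mul, coeff_X_one, mul_one] at e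
  rw [mul_comm (X ^ 2), coeff_mul_X_pow', if_neg (by omega)] at e
  exact sub_eq_zero.1 e

end GrothLib.GaDualQ13
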